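import Cfsg.Agent.SuzG24Iso.Data
import Cfsg.Agent.G2Four.Action
import Cfsg.Agent.Chev.SimpleAll
import Cfsg.Agent.CosetCert.SuzOrder.Main

/-!
# The subgroup `⟨a, …, f⟩` of the presented Suzuki group is `G2(4)`

The six generators satisfy the relators not involving `g`; a chain of coset enumerations bounds
the order of the group `Six` presented by those relators by `|G2(4)|`, and six involutions of
`G2(4)` satisfying them generate `G2(4)`.
-/

set_option autoImplicit false
set_option maxRecDepth 100000
set_option maxHeartbeats 2000000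

namespace Cfsg.Agent.SuzG24Iso

open Cfsg.Lie Cfsg.Agent.CosetCert Cfsg.Agent.G2Four

/-- The group presented by the relators not involving `g`. -/
abbrev Six : Type := PresentedGroup (wordRels SuzChain1.relWords)

/-- The names of the generators of the second chain step. -/
def ren2 (b : Fin 5) : Fin 6 := b.castSucc

/-- The names of the generators of the third chain step. -/
def ren3 (b : Fin 4) : Fin 6 := b.castSucc.castSucc

theorem rels2_sub : ∀ l ∈ SuzChain2.relWords,
    l.map (fun a => (ren2 a.1, a.2)) ∈ SuzChain1.relWords := by decide +kernel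

theorem rels3_sub : ∀ l ∈ SuzChain3.relWords,
    l.map (fun a => (ren3 a.1, a.2)) ∈ SuzChain1.relWords := by decide +kernel

theorem six_card : Finite Six ∧ Nat.card Six ≤ 251596800 := by
  have h4 := letterSub_nil_card (wordRels SuzChain1.relWords)
  have h3 := letterSub_card_le (rels := wordRels SuzChain1.relWords) ren3 (List.finRange 4)
    SuzChain3.subLetters [] rfl List.mem_finRange
    (fun l hl => PresentedGroup.one_of_mem (List.mem_map_of_mem (rels3_sub l hl)))
    SuzChain3.index_bound h4
  have h2 := letterSub_card_le (rels := wordRels SuzChain1.relWords) ren2 (List.finRange 5)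
    SuzChain2.subLetters ((List.finRange 4).map ren3) (by decide +kernel) List.mem_finRange
    (fun l hl => PresentedGroup.one_of_mem (List.mem_map_of_mem (rels2_sub l hl)))
    SuzChain2.index_bound h3
  have hS : SuzChain1.subLetters = (List.finRange 5).map ren2 := by decide +kernel
  obtain ⟨hf, hc⟩ := card_le_top (rels := wordRels SuzChain1.relWords) SuzChain1.subLetters rfl
    SuzChain1.index_bound (hS ▸ h2)
  exact ⟨hf, hc.trans (by norm_num)⟩

/-- The Steinberg group over the field with four elements. -/
abbrev St : Type := chevG2.SteinbergGroup K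

/-- The element of the Steinberg group given by a word in the root elements. -/
noncomputable def stEl (l : List (ℕ × K)) : St :=
  PresentedGroup.mk (chevG2.steinbergRels K) (chevG2.stWord l)

theorem stEl_nil : stEl [] = 1 := by simp [stEl, ChevalleyDatum.stWord]

theorem stEl_append (l m : List (ℕ × K)) : stEl (l ++ m) = stEl l * stEl m := by
  simp [stEl, ChevalleyDatum.stWord]

theorem stAct_stEl (l : List (ℕ × K)) : stAct (RingHom.id K) (stEl l) = wAut l := by
  rw [stEl, stAct_word]
  simp

theorem card_K : Fintype.card K = 4 := Cfsg.Agent.ThreeTrans.SU32.F4.card_eq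

theorem stAct_injective : Function.Injective (stAct (RingHom.id K)) := by
  obtain ⟨e⟩ := exists_steinberg_equiv K
  have hs : IsSimpleGroup St :=
    have := (Chev.g2_simple K ⟨.w, by decide, by decide⟩).1
    e.isSimpleGroup
  rcases (stAct (RingHom.id K)).normal_ker.eq_bot_or_eq_top with h | h
  · exact (MonoidHom.ker_eq_bot_iff _).1 h
  · have h1 : stAct (RingHom.id K) (stEl [(0, .e)]) = 1 :=
      MonoidHom.mem_ker.1 (h ▸ Subgroup.mem_top _)
    rw [stAct_stEl, ← pow_one (wAut _)] at h1
    exact absurd h1 (wAut_pow_ne_one (by decide) (by decide +kernel))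

/-- Words in the six involutions, spelled in the root elements. -/
def spell (l : List (Fin 6)) : List (ℕ × K) := l.flatMap six

theorem six_lt : ∀ i : Fin 6, ∀ p ∈ six i, p.1 < 12 := by decide +kernel

theorem spell_lt (l : List (Fin 6)) : ∀ p ∈ spell l, p.1 < 12 := fun p hp => by
  obtain ⟨i, -, hi⟩ := List.mem_flatMap.1 hp
  exact six_lt i p hi

theorem stEl_spell : ∀ l : List (Fin 6), stEl (spell l) = (l.map fun i => stEl (six i)).prod
  | [] => stEl_nil
  | i :: l => by
    rw [List.map_cons, List.prod_cons, ← stEl_spell l, ← stEl_append]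
    rfl

theorem six_sq : ∀ i : Fin 6, word (six i ++ six i) = idB := by decide +kernel

theorem stEl_six_inv (i : Fin 6) : (stEl (six i))⁻¹ = stEl (six i) := by
  refine inv_eq_of_mul_eq_one_right (stAct_injective ?_)
  rw [← stEl_append, stAct_stEl, map_one]
  rw [wAut_congr (fun p hp => (List.mem_append.1 hp).elim (six_lt i p) (six_lt i p)) (m := [])
    (by simp) ((six_sq i).trans rfl)]
  rfl

theorem rels_word : ∀ l ∈ SuzChain1.relWords, word (spell (l.map Prod.fst)) = idB := by
  decide +kernel

theorem root_word : ∀ r : Fin 12, ∀ t : K,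
    word (spell (rootWord r t)) = word [((r : ℕ), t)] := by decide +kernel

theorem lift_rels_one : ∀ g ∈ wordRels SuzChain1.relWords,
    FreeGroup.lift (fun i => stEl (six i)) g = 1 := by
  intro g hg
  obtain ⟨l, hl, rfl⟩ := List.mem_map.1 hg
  have h1 : FreeGroup.lift (fun i => stEl (six i)) (FreeGroup.mk l) =
      stEl (spell (l.map Prod.fst)) := by
    rw [stEl_spell, List.map_map, FreeGroup.lift_mk]
    refine congrArg List.prod (List.map_congr_left fun a _ => ?_)
    obtain ⟨i, b⟩ := a
    cases b
    · exact stEl_six_inv i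
    · rfl
  rw [h1]
  apply stAct_injective
  rw [stAct_stEl, map_one,
    wAut_congr (spell_lt _) (m := []) (by simp) ((rels_word l hl).trans rfl)]
  rfl

/-- The homomorphism onto `G2(4)`. -/
noncomputable def toSt : Six →* St := PresentedGroup.toGroup lift_rels_one

theorem stEl_spell_mem (l : List (Fin 6)) : stEl (spell l) ∈ toSt.range := by
  rw [stEl_spell]
  refine list_prod_mem fun x hx => ?_
  obtain ⟨i, -, rfl⟩ := List.mem_map.1 hx
  exact ⟨PresentedGroup.of i, PresentedGroup.toGroup.of _⟩

theorem toSt_surjective : Function.Surjective toSt := by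
  rw [← MonoidHom.range_eq_top, eq_top_iff, ← PresentedGroup.closure_range_of,
    Subgroup.closure_le]
  rintro _ ⟨⟨r, t⟩, rfl⟩
  have hr : (r : ℕ) < 12 := r.2
  have h1 : stEl [((r : ℕ), t)] = stEl (spell (rootWord r t)) := by
    apply stAct_injective
    rw [stAct_stEl, stAct_stEl]
    exact wAut_congr (by simp [hr]) (spell_lt _) (root_word ⟨r, hr⟩ t).symm
  have h2 : (PresentedGroup.of (r, t) : St) = stEl [((r : ℕ), t)] := by
    simp only [stEl, ChevalleyDatum.stWord, ChevalleyDatum.stX, List.map_cons, List.map_nil,
      List.prod_cons, List.prod_nil, mul_one]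
    rw [dif_pos r.2]
    rfl
  rw [h2, h1]
  exact stEl_spell_mem _

theorem six_equiv : Nonempty (Six ≃* St) ∧ Nat.card Six = 251596800 := by
  obtain ⟨hfin, hle⟩ := six_card
  have hb : Function.Bijective toSt := toSt_surjective.bijective_of_nat_card_le (by
    rw [card_steinberg card_K]; exact hle)
  exact ⟨⟨MulEquiv.ofBijective toSt hb⟩,
    (Nat.card_eq_of_bijective _ hb).trans (card_steinberg card_K)⟩

/-- The relators of the presented Suzuki group. -/
abbrev suzRels : Set (FreeGroup Cfsg.Spor.Suz.Gen) :=
  Cfsg.Spor.coxRelators Cfsg.Spor.Suz.edges ∪ {r | r ∈ Cfsg.Spor.Suz.extra}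

theorem rels1_sub : (SuzChain1.relWords.all fun l => decide
    (l.map (fun a => (SuzChain1.ren a.1, a.2)) ∈
      coxWords SuzG24.genList Cfsg.Spor.Suz.edges Cfsg.Spor.Suz.extra)) = true := by
  decide +kernel

theorem sub_iso : Nonempty (↥(Data.sub suzRels SuzG24.subGens) ≃* ↥(chevG2.group K)) := by
  obtain ⟨ψ, hψ⟩ := exists_rename (rels := suzRels) SuzChain1.relWords SuzChain1.ren
    (fun l hl => SuzOrder.rels_ok _
      (of_decide_eq_true (List.all_eq_true.1 rels1_sub l hl)))
  have hgen : SuzG24.subGens = (List.finRange 6).map fun i => FreeGroup.of (SuzChain1.ren i) := rfl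
  have hr : ψ.range = Data.sub suzRels SuzG24.subGens := by
    rw [Data.sub, MonoidHom.range_eq_map, ← PresentedGroup.closure_range_of, MonoidHom.map_closure,
      MonoidHom.map_closure]
    apply congrArg Subgroup.closure
    ext g
    constructor
    · rintro ⟨_, ⟨i, rfl⟩, rfl⟩
      refine ⟨FreeGroup.of (SuzChain1.ren i), ?_, ?_⟩
      · rw [hgen]; exact List.mem_map.2 ⟨i, List.mem_finRange i, rfl⟩
      · exact ((hψ (FreeGroup.of i)).trans (by rw [FreeGroup.map.of])).symm
    · rintro ⟨w, hw, rfl⟩
      rw [hgen] at hw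
      obtain ⟨i, -, rfl⟩ := List.mem_map.1 hw
      exact ⟨_, ⟨i, rfl⟩, (hψ (FreeGroup.of i)).trans (by rw [FreeGroup.map.of])⟩
  obtain ⟨⟨e⟩, hc⟩ := six_equiv
  have hH : Nat.card ↥(Data.sub suzRels SuzG24.subGens) = 251596800 := by
    have h := (Data.sub suzRels SuzG24.subGens).card_mul_index
    rw [SuzG24.index_val] at h
    have hG : Nat.card (PresentedGroup suzRels) = 448345497600 := SuzOrder.order_and_simple.2
    rw [hG] at h
    omega
  have : Finite Six := six_card.1
  have hb : Function.Bijective ψ.rangeRestrict :=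
    ψ.rangeRestrict_surjective.bijective_of_nat_card_le (by rw [hr, hH, hc])
  obtain ⟨e'⟩ := exists_steinberg_equiv K
  exact ⟨(MulEquiv.subgroupCongr hr).symm.trans
    ((MulEquiv.ofBijective _ hb).symm.trans (e.trans e'))⟩

end Cfsg.Agent.SuzG24Iso
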