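import Cfsg.Agent.G2Four.Rep

/-!
Generated: six involutions of `G2(4)` satisfying the relations of the Suz diagram on `a, …, f`,
and words in them for the root elements.
-/

set_option autoImplicit false

namespace Cfsg.Agent.SuzG24Iso

open Cfsg.Agent.G2Four

/-- The six involutions, as words in the root elements. -/
def sixTab : List (List (ℕ × K)) := [
  [(1, .e)],
  [(6, .w), (10, .w'), (6, .w)],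
  [(0, .e)],
  [(8, .w')],
  [(6, .w), (3, .w), (6, .w)],
  [(1, .w)]]

/-- The involution with the given number. -/
def six (i : Fin 6) : List (ℕ × K) := sixTab.getD i []

/-- Words in the six involutions for the root elements with parameters `1` and `ω`. -/
def rootTab : List (List (List (Fin 6))) := [
  [[2], [1, 2, 1, 5, 1, 0, 1, 2, 5, 1]],
  [[0], [5]],
  [[1, 4, 3, 2, 3, 2, 1, 0, 4, 5, 1, 2, 3, 2, 1, 0, 4, 5, 1, 2, 3, 2, 1, 3, 4], [1, 0, 1, 4, 3, 2, 1, 0, 3, 4, 5, 1, 2, 3, 2, 1, 0, 4, 3, 2, 5, 1, 0, 2, 1, 3, 4]],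
  [[1, 0, 1, 2, 3, 4, 5, 1, 0, 1, 0, 2, 3, 2, 1, 0, 1, 4, 3, 2, 5, 1, 0, 1], [1, 0, 1, 0, 5, 1, 0, 3, 2, 3, 4, 3, 2, 1, 0, 3, 5, 1, 0, 1]],
  [[1, 0, 1, 2, 1, 0, 3, 4, 5, 1, 0, 2, 3, 2, 1, 0, 4, 3, 2, 5, 1, 0, 2, 1], [1, 0, 1, 2, 1, 5, 1, 0, 2, 1, 0, 3, 4, 2, 3, 2, 1, 0, 1, 4, 3, 2, 1, 5, 1, 0, 2, 1]],
  [[1, 2, 1, 4, 3, 2, 1, 0, 1, 2, 3, 2, 1, 4], [0, 1, 2, 4, 3, 2, 1, 5, 1, 2, 3, 2, 1, 0, 4]],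
  [[4, 3, 2, 3, 4, 5], [0, 1, 4, 3, 2, 1, 5, 1, 0, 1, 2, 1, 3, 4, 5, 1]],
  [[0, 4, 3, 2, 3, 4, 5, 1, 0, 1, 2, 3, 2, 1, 0, 1, 0, 4, 3, 2, 3, 4, 5], [5, 1, 2, 3, 2, 1, 5]],
  [[2, 1, 0, 1, 0, 4, 3, 2, 1, 3, 2, 3, 4, 3, 2, 1, 0, 3, 2, 1, 0, 1, 3, 2, 4], [2, 1, 0, 4, 3, 2, 1, 0, 1, 3, 2, 3, 4, 3, 2, 1, 0, 1, 0, 3, 2, 1, 3, 2, 4]],
  [[0, 1, 2, 1, 3, 4, 5, 1, 0, 1, 0, 2, 3, 2, 1, 0, 1, 4, 3, 2, 5, 1, 0, 2], [0, 2, 1, 0, 5, 1, 0, 3, 2, 3, 4, 3, 2, 1, 0, 3, 5, 1, 0, 2]],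
  [[1, 4, 3, 2, 1, 0, 1, 2, 3, 4], [1, 4, 3, 5, 1, 0, 2, 1, 3, 4, 5]],
  [[4, 1, 3, 2, 1, 0, 1, 2, 5, 1, 0, 2, 1, 3, 4, 5], [0, 1, 0, 1, 4, 3, 2, 3, 4, 5, 1, 0, 1, 0]]]

/-- A word in the six involutions for a root element. -/
def rootWord (r : ℕ) : K → List (Fin 6)
  | .o => []
  | .e => (rootTab.getD r []).getD 0 []
  | .w => (rootTab.getD r []).getD 1 []
  | .w' => (rootTab.getD r []).getD 0 [] ++ (rootTab.getD r []).getD 1 []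

end Cfsg.Agent.SuzG24Iso
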